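import Cfsg.Agent.Lib.Perm.SRG77.Points
import Cfsg.Agent.Lib.LeechAut.HSUnique

/-!
A strongly regular graph with parameters (77, 16, 0, 4) extends to one with parameters (100, 22, 0, 6).
-/

set_option autoImplicit false

namespace Cfsg.Agent.Perm.SRG77

open Finset

variable {V : Type*} [Fintype V] [DecidableEq V]

/-- the twenty-two points -/
abbrev Pt (G : SimpleGraph V) : Type _ := {C : Finset V // IsPt G C}

/-- adjacency of the extended graph -/
def bigAdj (G : SimpleGraph V) : Option (Pt G ⊕ V) → Option (Pt G ⊕ V) → Prop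
  | none, some (Sum.inl _) => True
  | some (Sum.inl _), none => True
  | some (Sum.inl C), some (Sum.inr z) => z ∈ C.1
  | some (Sum.inr z), some (Sum.inl C) => z ∈ C.1
  | some (Sum.inr z), some (Sum.inr w) => G.Adj z w
  | _, _ => False

/-- the extended graph -/
def bigGraph (G : SimpleGraph V) : SimpleGraph (Option (Pt G ⊕ V)) where
  Adj := bigAdj G
  symm := ⟨by rintro (_ | (C | z)) (_ | (D | w)) h <;> first | exact h | exact G.adj_symm h⟩
  loopless := ⟨by rintro (_ | (C | z)) h <;> first | exact h | exact G.irrefl h⟩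

theorem card_filter_split (G : SimpleGraph V) [Fintype (Pt G)] (P : Option (Pt G ⊕ V) → Prop)
    [DecidablePred P] : (univ.filter P).card = Nat.card {_u : Unit // P none} +
      Nat.card {C : Pt G // P (some (Sum.inl C))} + Nat.card {z : V // P (some (Sum.inr z))} := by
  classical
  simp only [Nat.card_eq_fintype_card, Fintype.card_subtype, card_filter, Fintype.sum_option,
    Fintype.sum_sum_type, Fintype.univ_unit, sum_singleton]
  ring

theorem nat_card_filter {α : Type*} [Fintype α] (Q : α → Prop) [DecidablePred Q] :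
    Nat.card {z // Q z} = (univ.filter Q).card := by
  rw [Nat.card_eq_fintype_card, Fintype.card_subtype]

theorem nat_card_eq_zero {α : Type*} {Q : α → Prop} (h : ∀ z, ¬ Q z) : Nat.card {z // Q z} = 0 := by
  haveI : IsEmpty {z // Q z} := ⟨fun z => h z.1 z.2⟩
  exact Nat.card_of_isEmpty

theorem nat_card_unit {Q : Prop} (h : Q) : Nat.card {_u : Unit // Q} = 1 := by
  haveI : Unique {_u : Unit // Q} := { default := ⟨(), h⟩, uniq := fun _ => Subtype.ext rfl }
  exact Nat.card_unique

theorem nat_card_all {α : Type*} {Q : α → Prop} (h : ∀ z, Q z) : Nat.card {z // Q z} = Nat.card α :=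
  Nat.card_congr (Equiv.subtypeUnivEquiv h)

variable {G : SimpleGraph V} [DecidableRel G.Adj] (hG : G.IsSRGWith 77 16 0 4)

include hG

theorem card_pt_filter [Fintype (Pt G)] (P : Finset V → Prop) [DecidablePred P]
    [DecidablePred (IsPt G)] :
    (univ.filter fun C : Pt G => P C.1).card = (univ.filter fun C : Finset V => IsPt G C ∧ P C).card := by
  refine card_bij (fun C _ => C.1) (fun C hC => ?_) (fun C _ D _ e => Subtype.ext e) (fun C hC => ?_)
  · simp only [mem_filter, mem_univ, true_and] at hC ⊢
    exact ⟨C.2, hC⟩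
  · simp only [mem_filter, mem_univ, true_and] at hC
    exact ⟨⟨C, hC.1⟩, by simp [hC.2], rfl⟩

theorem card_pt_through [Fintype (Pt G)] (x : V) :
    (univ.filter fun C : Pt G => x ∈ C.1).card = 6 := by
  classical
  rw [card_pt_filter hG (fun C => x ∈ C), card_points_through hG x]

theorem card_pt_through_two [Fintype (Pt G)] {x y : V} (hyx : y ≠ x) (hy : ¬ G.Adj x y) :
    (univ.filter fun C : Pt G => x ∈ C.1 ∧ y ∈ C.1).card = 2 := by
  classical
  rw [card_pt_filter hG (fun C => x ∈ C ∧ y ∈ C), card_points_through_two hG x hyx hy]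

theorem card_pt [Fintype (Pt G)] : Fintype.card (Pt G) = 22 := by
  have h := sum_card_bipartiteAbove_eq_sum_card_bipartiteBelow (fun (C : Pt G) (z : V) => z ∈ C.1)
    (s := (univ : Finset (Pt G))) (t := (univ : Finset V))
  simp only [bipartiteAbove, bipartiteBelow] at h
  rw [sum_congr rfl (g := fun _ => 21) (fun C _ => by rw [filter_mem_eq_inter, univ_inter]; exact C.2.1),
    sum_congr rfl (g := fun _ => 6) (fun z _ => card_pt_through hG z), sum_const, sum_const,
    card_univ, card_univ, hG.card, smul_eq_mul, smul_eq_mul] at h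
  omega

theorem card_pt_inter [Fintype (Pt G)] {C D : Pt G} (hCD : C ≠ D) : (C.1 ∩ D.1).card = 5 := by
  classical
  let R := (univ : Finset (Pt G)).erase C
  have hR : R.card = 21 := by
    simp [R, card_erase_of_mem, card_pt hG]
  have h1 : ∀ c ∈ C.1, (R.filter fun E => c ∈ E.1).card = 5 := by
    intro c hc
    have e : R.filter (fun E => c ∈ E.1) = (univ.filter fun E : Pt G => c ∈ E.1).erase C := by
      ext E; simp [R, and_comm]
    rw [e, card_erase_of_mem (by simp [hc]), card_pt_through hG c]
  have h2 : ∀ c ∈ C.1, ∀ c' ∈ C.1, c ≠ c' → (R.filter fun E => c ∈ E.1 ∧ c' ∈ E.1).card = 1 := by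
    intro c hc c' hc' hne
    have e : R.filter (fun E => c ∈ E.1 ∧ c' ∈ E.1) =
        (univ.filter fun E : Pt G => c ∈ E.1 ∧ c' ∈ E.1).erase C := by
      ext E; simp [R, and_comm]
    rw [e, card_erase_of_mem (by simp [hc, hc']),
      card_pt_through_two hG (Ne.symm hne) (C.2.2 c hc c' hc')]
  let k : Pt G → ℤ := fun E => ∑ c ∈ C.1, if c ∈ E.1 then 1 else 0
  have hk : ∀ E : Pt G, k E = ((C.1 ∩ E.1).card : ℤ) := fun E => by
    simp [k, sum_boole, filter_mem_eq_inter]
  have s1 : ∑ E ∈ R, k E = 105 := by
    simp only [k]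
    rw [sum_comm, sum_congr rfl (g := fun _ => (5 : ℤ)) (fun c hc => by
      rw [sum_boole, h1 c hc]; rfl), sum_const, C.2.1]
    norm_num
  have s2 : ∑ E ∈ R, k E ^ 2 = 525 := by
    simp only [k, sq, sum_mul_sum]
    rw [sum_comm, sum_congr rfl (g := fun _ => (25 : ℤ)) (fun c hc => ?_), sum_const, C.2.1]
    · norm_num
    · rw [sum_comm, ← add_sum_erase _ _ hc, sum_congr (s₁ := C.1.erase c) rfl (g := fun _ => (1 : ℤ))
          (fun c' hc' => ?_), sum_const, card_erase_of_mem hc, C.2.1]
      · simp only [ite_mul, one_mul, zero_mul, ← ite_and, and_self, sum_boole, h1 c hc]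
        norm_num
      · obtain ⟨hne, hc'⟩ := mem_erase.1 hc'
        simp only [ite_mul, one_mul, zero_mul, ← ite_and, sum_boole, h2 c hc c' hc' (Ne.symm hne)]
        norm_num
  have hz : ∑ E ∈ R, (k E - 5) ^ 2 = 0 := by
    simp only [sub_sq, sum_add_distrib, sum_sub_distrib, ← sum_mul, ← mul_sum, sum_const, hR,
      nsmul_eq_mul, s1, s2]
    norm_num
  have h := (sum_eq_zero_iff_of_nonneg fun E _ => sq_nonneg _).1 hz D
    (mem_erase.2 ⟨Ne.symm hCD, mem_univ D⟩)
  have h' := eq_zero_of_pow_eq_zero h
  rw [hk] at h'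
  omega

theorem isSRG_bigGraph [Fintype (Pt G)] [DecidableRel (bigGraph G).Adj] :
    (bigGraph G).IsSRGWith 100 22 0 6 := by
  classical
  have hcn : ∀ v w, Fintype.card ((bigGraph G).commonNeighbors v w) =
      (univ.filter fun u => (bigGraph G).Adj v u ∧ (bigGraph G).Adj w u).card := by
    intro v w
    rw [← Set.toFinset_card]
    congr 1
    ext u
    rw [Set.mem_toFinset]
    simp [SimpleGraph.commonNeighbors]
  have hmem : ∀ C : Pt G, (univ.filter fun z => z ∈ C.1).card = 21 := fun C => by
    rw [filter_mem_eq_inter, univ_inter]; exact C.2.1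
  refine ⟨?_, ?_, ?_, ?_⟩
  · rw [Fintype.card_option, Fintype.card_sum, card_pt hG, hG.card]
  · intro v
    rw [← SimpleGraph.card_neighborFinset_eq_degree, SimpleGraph.neighborFinset_eq_filter,
      card_filter_split]
    obtain (_ | (C | z)) := v <;> simp only [bigGraph, bigAdj]
    · rw [nat_card_eq_zero fun _ => not_false, nat_card_all fun _ => trivial,
        nat_card_eq_zero fun _ => not_false, Nat.card_eq_fintype_card, card_pt hG]
    · rw [nat_card_unit trivial, nat_card_eq_zero fun _ => not_false, nat_card_filter, hmem C]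
    · rw [nat_card_eq_zero fun _ => not_false, nat_card_filter, nat_card_filter,
        card_pt_through hG z, degree77 hG z]
  · intro v w hvw
    rw [hcn, card_filter_split]
    obtain (_ | (C | z)) := v <;> obtain (_ | (D | u)) := w <;> simp only [bigGraph, bigAdj] at hvw ⊢
    · rw [nat_card_eq_zero fun _ h => h.1, nat_card_eq_zero fun _ h => h.2,
        nat_card_eq_zero fun _ h => h.1]
    · rw [nat_card_eq_zero fun _ h => h.2, nat_card_eq_zero fun _ h => h.1,
        nat_card_eq_zero fun _ h => h.2]
    · rw [nat_card_eq_zero fun _ h => h.2, nat_card_eq_zero fun _ h => h.1,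
        nat_card_eq_zero fun c h => C.2.2 u hvw c h.1 h.2]
    · rw [nat_card_eq_zero fun _ h => h.1, nat_card_eq_zero fun _ h => h.2,
        nat_card_eq_zero fun c h => D.2.2 z hvw c h.2 h.1]
    · rw [nat_card_eq_zero fun _ h => h.1, nat_card_eq_zero fun E h => E.2.2 z h.1 u h.2 hvw,
        nat_card_eq_zero fun c h => no_triangle hG hvw h.1 h.2]
  · intro v w hne hvw
    rw [hcn, card_filter_split]
    obtain (_ | (C | z)) := v <;> obtain (_ | (D | u)) := w <;> simp only [bigGraph, bigAdj] at hvw ⊢
    · exact absurd rfl hne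
    · exact absurd trivial hvw
    · rw [nat_card_eq_zero fun _ h => h.1, nat_card_eq_zero (α := V) fun _ h => h.1]
      simp only [true_and, zero_add, add_zero]
      rw [nat_card_filter, card_pt_through hG u]
    · exact absurd trivial hvw
    · have hCD : C ≠ D := fun e => hne (by rw [e])
      rw [nat_card_unit ⟨trivial, trivial⟩, nat_card_eq_zero fun _ h => h.1, nat_card_filter]
      have e : (univ.filter fun z => z ∈ C.1 ∧ z ∈ D.1) = C.1 ∩ D.1 := by ext z; simp
      rw [e, card_pt_inter hG hCD]
    · rw [nat_card_eq_zero fun _ h => h.2, nat_card_eq_zero fun _ h => h.1, nat_card_filter,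
        ← six_of_isPt hG C.2 hvw, zero_add, zero_add]
      congr 1
      ext c
      simp only [mem_filter, mem_univ, true_and, G.adj_comm u c]
    · rw [nat_card_eq_zero fun _ h => h.2, nat_card_eq_zero (α := V) fun _ h => h.2]
      simp only [and_true, zero_add, add_zero]
      rw [nat_card_filter, card_pt_through hG z]
    · rw [nat_card_eq_zero fun _ h => h.1, nat_card_eq_zero fun _ h => h.2, nat_card_filter,
        ← six_of_isPt hG D.2 hvw, zero_add, zero_add]
      congr 1
      ext c
      simp only [mem_filter, mem_univ, true_and, G.adj_comm z c, and_comm]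
    · have hzu : z ≠ u := fun e => hne (by rw [e])
      rw [nat_card_eq_zero fun _ h => h.1, nat_card_filter, nat_card_filter,
        card_pt_through_two hG (Ne.symm hzu) hvw, common77 hG z u, if_neg hzu, if_neg hvw]

omit hG in
/-- the seventy-seven vertices away from the new vertex -/
def innerIso [Fintype (Pt G)] :
    G ≃g (bigGraph G).induce {v | v ≠ none ∧ ¬ (bigGraph G).Adj none v} where
  toFun z := ⟨some (Sum.inr z), by simp [bigGraph, bigAdj]⟩
  invFun v := match v with
    | ⟨none, h⟩ => absurd rfl h.1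
    | ⟨some (Sum.inl _), h⟩ => absurd trivial h.2
    | ⟨some (Sum.inr z), _⟩ => z
  left_inv z := rfl
  right_inv := by
    rintro ⟨(_ | (C | z)), h⟩
    · exact absurd rfl h.1
    · exact absurd trivial h.2
    · rfl
  map_rel_iff' := Iff.rfl

end Cfsg.Agent.Perm.SRG77
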