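import Cfsg.Agent.Lib.Perm.SRG77.Quadrangle

/-!
A strongly regular graph with parameters (77, 16, 0, 4) seen from a vertex: the Gram matrix on the
sixty vertices at distance two, and its fifteen classes.
-/

set_option autoImplicit false

namespace Cfsg.Agent.Perm.SRG77

open Finset Matrix

variable {V : Type*} [Fintype V] [DecidableEq V] {G : SimpleGraph V} [DecidableRel G.Adj]

theorem common77 (hG : G.IsSRGWith 77 16 0 4) (u w : V) :
    (univ.filter fun z => G.Adj u z ∧ G.Adj w z).card =
      if u = w then 16 else if G.Adj u w then 0 else 4 := by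
  have e : (univ.filter fun z => G.Adj u z ∧ G.Adj w z).card = Fintype.card (G.commonNeighbors u w) := by
    rw [← Set.toFinset_card]
    refine congrArg Finset.card (Finset.ext fun z => ?_)
    simp only [mem_filter, mem_univ, true_and]
    rw [Set.mem_toFinset]
    exact Iff.rfl
  rw [e]
  split_ifs with h h'
  · subst h
    have : Fintype.card (G.commonNeighbors u u) = G.degree u := by
      rw [← SimpleGraph.card_neighborSet_eq_degree]
      exact Fintype.card_congr (Equiv.setCongr (by simp [SimpleGraph.commonNeighbors]))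
    rw [this, hG.regular u]
  · exact hG.of_adj u w h'
  · exact hG.of_not_adj h h'

theorem degree77 (hG : G.IsSRGWith 77 16 0 4) (u : V) :
    (univ.filter fun z => G.Adj u z).card = 16 := by
  have := common77 hG u u
  simpa using this

theorem no_triangle (hG : G.IsSRGWith 77 16 0 4) {u w z : V} (h1 : G.Adj u w) (h2 : G.Adj u z) :
    ¬ G.Adj w z := by
  intro h3
  have h := common77 hG u w
  rw [if_neg (G.ne_of_adj h1), if_pos h1, card_eq_zero, filter_eq_empty_iff] at h
  exact h (mem_univ z) ⟨h2, h3⟩

variable (G)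

/-- the adjacency indicator -/
def ind (u w : V) : ℤ := if G.Adj u w then 1 else 0

/-- the neighbours of `x` -/
abbrev Near (x : V) : Type _ := {a : V // G.Adj x a}

/-- the vertices at distance two from `x` -/
abbrev Far (x : V) : Type _ := {m : V // m ≠ x ∧ ¬ G.Adj x m}

/-- the far-far block of the adjacency matrix -/
def bmat (x : V) : Matrix (Far G x) (Far G x) ℤ := Matrix.of fun m n => ind G m.1 n.1

/-- the near-far block -/
def xmat (x : V) : Matrix (Near G x) (Far G x) ℤ := Matrix.of fun a m => ind G a.1 m.1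

/-- the all-one matrix -/
def allOne (α β : Type*) : Matrix α β ℤ := Matrix.of fun _ _ => 1

/-- the projection onto the space of the six points of `x`, times 48 -/
def qmat (x : V) : Matrix (Far G x) (Far G x) ℤ :=
  (12 : ℤ) • (1 : Matrix (Far G x) (Far G x) ℤ) - (6 : ℤ) • bmat G x -
    (3 : ℤ) • ((xmat G x)ᵀ * xmat G x) + (4 : ℤ) • allOne _ _

variable {G}

theorem ind_symm (u w : V) : ind G u w = ind G w u := by simp [ind, G.adj_comm]

theorem sum_split (x : V) (f : V → ℤ) :
    ∑ z, f z = f x + ∑ a : Near G x, f a.1 + ∑ m : Far G x, f m.1 := by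
  have h1 : ∑ a : Near G x, f a.1 = ∑ z ∈ univ.filter (fun z => G.Adj x z), f z :=
    (sum_subtype _ (fun z => by simp) f).symm
  have h2 : ∑ m : Far G x, f m.1 = ∑ z ∈ univ.filter (fun z => z ≠ x ∧ ¬ G.Adj x z), f z :=
    (sum_subtype _ (fun z => by simp) f).symm
  rw [h1, h2, ← sum_filter_add_sum_filter_not univ (fun z => G.Adj x z) f]
  have h3 : univ.filter (fun z => ¬ G.Adj x z) =
      insert x (univ.filter fun z => z ≠ x ∧ ¬ G.Adj x z) := by
    ext z
    simp only [mem_filter, mem_univ, true_and, mem_insert]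
    by_cases h : z = x
    · subst h; simp
    · simp [h]
  rw [h3, sum_insert (by simp)]
  ring

theorem sum_ind_mul (hG : G.IsSRGWith 77 16 0 4) (u w : V) :
    ∑ z, ind G u z * ind G w z = if u = w then 16 else if G.Adj u w then 0 else 4 := by
  have h : ∀ z, ind G u z * ind G w z = if G.Adj u z ∧ G.Adj w z then 1 else 0 := by
    intro z; unfold ind; split_ifs <;> simp_all
  simp only [h, sum_boole, common77 hG u w]
  split_ifs <;> rfl

theorem sum_ind (hG : G.IsSRGWith 77 16 0 4) (u : V) : ∑ z, ind G u z = 16 := by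
  simp only [ind, sum_boole, degree77 hG u]
  rfl

theorem ind_near_near (hG : G.IsSRGWith 77 16 0 4) {x : V} (a a' : Near G x) :
    ind G a.1 a'.1 = 0 :=
  if_neg (no_triangle hG a.2 a'.2)

theorem ind_x_far {x : V} (m : Far G x) : ind G m.1 x = 0 :=
  if_neg fun h => m.2.2 h.symm

theorem ind_near_x {x : V} (a : Near G x) : ind G a.1 x = 1 := if_pos a.2.symm

section products

variable (hG : G.IsSRGWith 77 16 0 4) (x : V)

include hG

theorem bmat_sq : bmat G x * bmat G x =
    (12 : ℤ) • (1 : Matrix _ _ ℤ) + (4 : ℤ) • allOne _ _ - (4 : ℤ) • bmat G x -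
      (xmat G x)ᵀ * xmat G x := by
  ext m n
  simp only [Matrix.sub_apply, Matrix.add_apply, Matrix.smul_apply, Matrix.mul_apply,
    Matrix.transpose_apply, bmat, xmat, allOne, Matrix.of_apply, Matrix.one_apply, smul_eq_mul]
  have h := sum_split (G := G) x fun z => ind G m.1 z * ind G n.1 z
  rw [sum_ind_mul hG, ind_x_far m, zero_mul, zero_add] at h
  have e1 : ∑ a : Near G x, ind G a.1 m.1 * ind G a.1 n.1 =
      ∑ a : Near G x, ind G m.1 a.1 * ind G n.1 a.1 :=
    sum_congr rfl fun a _ => by rw [ind_symm a.1, ind_symm a.1]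
  have e2 : ∑ k : Far G x, ind G m.1 k.1 * ind G k.1 n.1 =
      ∑ k : Far G x, ind G m.1 k.1 * ind G n.1 k.1 :=
    sum_congr rfl fun k _ => by rw [ind_symm k.1]
  rw [e1, e2]
  by_cases hmn : m = n
  · subst hmn
    rw [if_pos rfl] at h
    rw [if_pos rfl, show ind G m.1 m.1 = 0 from if_neg (G.irrefl)]
    linarith
  · rw [if_neg (fun e => hmn (Subtype.ext e))] at h
    rw [if_neg hmn]
    by_cases hadj : G.Adj m.1 n.1
    · rw [if_pos hadj] at h
      rw [show ind G m.1 n.1 = 1 from if_pos hadj]
      linarith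
    · rw [if_neg hadj] at h
      rw [show ind G m.1 n.1 = 0 from if_neg hadj]
      linarith

theorem xmat_bmat : xmat G x * bmat G x = (4 : ℤ) • allOne _ _ - (4 : ℤ) • xmat G x := by
  ext a m
  simp only [Matrix.sub_apply, Matrix.smul_apply, Matrix.mul_apply, bmat, xmat, allOne,
    Matrix.of_apply, smul_eq_mul]
  have h := sum_split (G := G) x fun z => ind G a.1 z * ind G m.1 z
  rw [sum_ind_mul hG, ind_x_far m, mul_zero, zero_add,
    sum_eq_zero (fun a' _ => by rw [ind_near_near hG, zero_mul] : ∀ a' ∈ (univ : Finset (Near G x)),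
      ind G a.1 a'.1 * ind G m.1 a'.1 = 0), zero_add,
    if_neg (fun e : a.1 = m.1 => m.2.2 (e ▸ a.2))] at h
  have e2 : ∑ k : Far G x, ind G a.1 k.1 * ind G k.1 m.1 =
      ∑ k : Far G x, ind G a.1 k.1 * ind G m.1 k.1 :=
    sum_congr rfl fun k _ => by rw [ind_symm k.1]
  rw [e2, ← h]
  by_cases hadj : G.Adj a.1 m.1
  · rw [if_pos hadj, show ind G a.1 m.1 = 1 from if_pos hadj]; norm_num
  · rw [if_neg hadj, show ind G a.1 m.1 = 0 from if_neg hadj]; norm_num

theorem xmat_gram : xmat G x * (xmat G x)ᵀ =
    (12 : ℤ) • (1 : Matrix _ _ ℤ) + (3 : ℤ) • allOne _ _ := by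
  ext a b
  simp only [Matrix.add_apply, Matrix.smul_apply, Matrix.mul_apply, Matrix.transpose_apply, xmat,
    allOne, Matrix.of_apply, Matrix.one_apply, smul_eq_mul]
  have h := sum_split (G := G) x fun z => ind G a.1 z * ind G b.1 z
  rw [sum_ind_mul hG, ind_near_x a, ind_near_x b,
    sum_eq_zero (fun a' _ => by rw [ind_near_near hG, zero_mul] : ∀ a' ∈ (univ : Finset (Near G x)),
      ind G a.1 a'.1 * ind G b.1 a'.1 = 0)] at h
  by_cases hab : a = b
  · subst hab
    rw [if_pos rfl] at h
    rw [if_pos rfl]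
    linarith
  · rw [if_neg (fun e => hab (Subtype.ext e)), if_neg (no_triangle hG a.2 b.2)] at h
    rw [if_neg hab]
    linarith

theorem bmat_row_sum (m : Far G x) : ∑ n : Far G x, ind G m.1 n.1 = 12 := by
  have h := sum_split (G := G) x fun z => ind G m.1 z
  rw [sum_ind hG, ind_x_far m, zero_add] at h
  have h2 : ∑ a : Near G x, ind G m.1 a.1 = 4 := by
    have hc := sum_ind_mul hG x m.1
    rw [if_neg (Ne.symm m.2.1), if_neg m.2.2, sum_split (G := G) x] at hc
    rw [show ind G x x = 0 from if_neg G.irrefl, zero_mul, zero_add,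
      sum_congr rfl (fun (a : Near G x) _ => by rw [ind_symm x, ind_near_x a, one_mul] :
        ∀ a ∈ (univ : Finset (Near G x)), ind G x a.1 * ind G m.1 a.1 = ind G m.1 a.1),
      sum_eq_zero (fun (k : Far G x) _ => by rw [ind_symm x, ind_x_far k, zero_mul] :
        ∀ k ∈ (univ : Finset (Far G x)), ind G x k.1 * ind G m.1 k.1 = 0), add_zero] at hc
    exact hc
  omega

theorem near_row_sum (m : Far G x) : ∑ a : Near G x, ind G a.1 m.1 = 4 := by
  have h := bmat_row_sum hG x m
  have h' := sum_split (G := G) x fun z => ind G m.1 z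
  rw [sum_ind hG, ind_x_far m, zero_add, h] at h'
  rw [sum_congr rfl (fun (a : Near G x) _ => ind_symm a.1 m.1)]
  omega

theorem xmat_row_sum (a : Near G x) : ∑ n : Far G x, ind G a.1 n.1 = 15 := by
  have h := sum_split (G := G) x fun z => ind G a.1 z
  rw [sum_ind hG, ind_near_x a, sum_eq_zero (fun a' _ => ind_near_near hG a a')] at h
  omega

theorem card_near : Fintype.card (Near G x) = 16 := by
  rw [Fintype.card_subtype]; exact degree77 hG x

theorem card_far : Fintype.card (Far G x) = 60 := by
  have h := sum_split (G := G) x fun _ => (1 : ℤ)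
  simp only [sum_const, card_univ, nsmul_eq_mul, mul_one, hG.card, card_near hG x] at h
  omega

theorem allOne_far_sq : allOne (Far G x) (Far G x) * allOne (Far G x) (Far G x) =
    (60 : ℤ) • allOne _ _ := by
  ext m n
  simp [Matrix.mul_apply, allOne, card_far hG x]

theorem bmat_allOne : bmat G x * allOne (Far G x) (Far G x) = (12 : ℤ) • allOne _ _ := by
  ext m n
  simp [Matrix.mul_apply, allOne, bmat, bmat_row_sum hG x m]

theorem allOne_bmat : allOne (Far G x) (Far G x) * bmat G x = (12 : ℤ) • allOne _ _ := by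
  ext m n
  simp only [Matrix.mul_apply, allOne, bmat, Matrix.of_apply, one_mul, Matrix.smul_apply,
    smul_eq_mul, mul_one]
  rw [sum_congr rfl (fun (k : Far G x) _ => ind_symm k.1 n.1), bmat_row_sum hG x n]

theorem xmat_allOne : xmat G x * allOne (Far G x) (Far G x) = (15 : ℤ) • allOne _ _ := by
  ext m n
  simp [Matrix.mul_apply, allOne, xmat, xmat_row_sum hG x m]

theorem xmatT_allOne : (xmat G x)ᵀ * allOne (Near G x) (Far G x) = (4 : ℤ) • allOne _ _ := by
  ext m n
  simp [Matrix.mul_apply, allOne, xmat, near_row_sum hG x m]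

end products

theorem allOne_transpose (α β : Type*) : (allOne α β)ᵀ = allOne β α := rfl

theorem bmat_transpose (x : V) : (bmat G x)ᵀ = bmat G x := by
  ext m n; exact ind_symm _ _

theorem qmat_transpose (x : V) : (qmat G x)ᵀ = qmat G x := by
  rw [qmat, Matrix.transpose_add, Matrix.transpose_sub, Matrix.transpose_sub, Matrix.transpose_smul,
    Matrix.transpose_smul, Matrix.transpose_smul, Matrix.transpose_smul, bmat_transpose,
    allOne_transpose, Matrix.transpose_mul, Matrix.transpose_transpose, Matrix.transpose_one]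

section square

variable (hG : G.IsSRGWith 77 16 0 4) (x : V)

include hG

theorem cmat_bmat : (xmat G x)ᵀ * xmat G x * bmat G x =
    (16 : ℤ) • allOne _ _ - (4 : ℤ) • ((xmat G x)ᵀ * xmat G x) := by
  rw [Matrix.mul_assoc, xmat_bmat hG x, Matrix.mul_sub, Matrix.mul_smul, Matrix.mul_smul,
    xmatT_allOne hG x, smul_smul]
  norm_num

theorem bmat_cmat : bmat G x * ((xmat G x)ᵀ * xmat G x) =
    (16 : ℤ) • allOne _ _ - (4 : ℤ) • ((xmat G x)ᵀ * xmat G x) := by
  have h := congrArg Matrix.transpose (cmat_bmat hG x)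
  rw [Matrix.transpose_mul, bmat_transpose, Matrix.transpose_sub, Matrix.transpose_smul,
    Matrix.transpose_smul, allOne_transpose, Matrix.transpose_mul, Matrix.transpose_transpose] at h
  exact h

theorem cmat_allOne : (xmat G x)ᵀ * xmat G x * allOne (Far G x) (Far G x) =
    (60 : ℤ) • allOne _ _ := by
  rw [Matrix.mul_assoc, xmat_allOne hG x, Matrix.mul_smul, xmatT_allOne hG x, smul_smul]
  norm_num

theorem allOne_cmat : allOne (Far G x) (Far G x) * ((xmat G x)ᵀ * xmat G x) =
    (60 : ℤ) • allOne _ _ := by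
  have h := congrArg Matrix.transpose (cmat_allOne hG x)
  rw [Matrix.transpose_mul, Matrix.transpose_smul, allOne_transpose, Matrix.transpose_mul,
    Matrix.transpose_transpose] at h
  exact h

theorem cmat_sq : (xmat G x)ᵀ * xmat G x * ((xmat G x)ᵀ * xmat G x) =
    (12 : ℤ) • ((xmat G x)ᵀ * xmat G x) + (48 : ℤ) • allOne _ _ := by
  have h : allOne (Near G x) (Near G x) * xmat G x = (4 : ℤ) • allOne _ _ := by
    ext a m
    simp [Matrix.mul_apply, allOne, xmat, near_row_sum hG x m]
  calc (xmat G x)ᵀ * xmat G x * ((xmat G x)ᵀ * xmat G x)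
      = (xmat G x)ᵀ * (xmat G x * (xmat G x)ᵀ * xmat G x) := by simp only [Matrix.mul_assoc]
    _ = _ := by
      rw [xmat_gram hG x, Matrix.add_mul, Matrix.smul_mul, Matrix.smul_mul, Matrix.one_mul, h,
        smul_smul, Matrix.mul_add, Matrix.mul_smul, Matrix.mul_smul, xmatT_allOne hG x, smul_smul]
      norm_num

theorem qmat_sq : qmat G x * qmat G x = (48 : ℤ) • qmat G x := by
  simp only [qmat, Matrix.mul_add, Matrix.add_mul, Matrix.mul_sub, Matrix.sub_mul, Matrix.mul_smul,
    Matrix.smul_mul, Matrix.one_mul, Matrix.mul_one, smul_add, smul_sub, smul_smul,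
    bmat_sq hG x, cmat_bmat hG x, bmat_cmat hG x, cmat_allOne hG x, allOne_cmat hG x, cmat_sq hG x,
    allOne_far_sq hG x, bmat_allOne hG x, allOne_bmat hG x]
  module

theorem qmat_row_sum (m : Far G x) : ∑ n, qmat G x m n = 0 := by
  have h : qmat G x * allOne (Far G x) (Far G x) = 0 := by
    simp only [qmat, Matrix.add_mul, Matrix.sub_mul, Matrix.smul_mul, Matrix.one_mul,
      bmat_allOne hG x, cmat_allOne hG x, allOne_far_sq hG x, smul_smul]
    module
  have h' := congrFun (congrFun h m) m
  simpa [Matrix.mul_apply, allOne] using h'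

theorem qmat_dot (m n : Far G x) : ∑ k, qmat G x m k * qmat G x n k = 48 * qmat G x m n := by
  have h := congrFun (congrFun (qmat_sq hG x) m) n
  simp only [Matrix.mul_apply, Matrix.smul_apply, smul_eq_mul] at h
  rw [← h]
  refine sum_congr rfl fun k _ => ?_
  rw [show qmat G x n k = qmat G x k n from congrFun (congrFun (qmat_transpose (G := G) x) k) n]

end square

/-- the number of common neighbours of `m`, `n` next to `x` -/
def meetNear (x : V) (m n : Far G x) : ℕ :=
  (univ.filter fun a : Near G x => G.Adj a.1 m.1 ∧ G.Adj a.1 n.1).card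

theorem qmat_apply (x : V) (m n : Far G x) : qmat G x m n =
    (if m = n then 12 else 0) - (if G.Adj m.1 n.1 then 6 else 0) - 3 * (meetNear x m n : ℤ) + 4 := by
  have h : ∀ a : Near G x, ind G a.1 m.1 * ind G a.1 n.1 =
      if G.Adj a.1 m.1 ∧ G.Adj a.1 n.1 then 1 else 0 := by
    intro a; unfold ind; split_ifs <;> simp_all
  simp only [qmat, bmat, xmat, allOne, Matrix.sub_apply, Matrix.add_apply, Matrix.smul_apply,
    Matrix.mul_apply, Matrix.transpose_apply, Matrix.of_apply, Matrix.one_apply, smul_eq_mul, h,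
    sum_boole, meetNear]
  simp only [ind]
  split_ifs <;> ring

theorem qmat_symm (x : V) (m n : Far G x) : qmat G x n m = qmat G x m n :=
  congrFun (congrFun (qmat_transpose (G := G) x) m) n

section values

variable (hG : G.IsSRGWith 77 16 0 4) (x : V)

include hG

theorem qmat_self (m : Far G x) : qmat G x m m = 4 := by
  have h : (meetNear x m m : ℤ) = 4 := by
    have h := near_row_sum hG x m
    simp only [ind, sum_boole] at h
    simp only [meetNear, and_self]
    exact h
  rw [qmat_apply, if_pos rfl, if_neg G.irrefl, h]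
  norm_num

theorem meet_of_adj {m n : Far G x} (h : G.Adj m.1 n.1) : meetNear x m n = 0 := by
  rw [meetNear, card_eq_zero, filter_eq_empty_iff]
  exact fun a _ ha => no_triangle hG ha.1 ha.2 h

theorem abs_qmat_le (m n : Far G x) : |qmat G x m n| ≤ 4 := by
  have h := sum_mul_sq_le_sq_mul_sq univ (qmat G x m) (qmat G x n)
  rw [qmat_dot hG x m n] at h
  simp only [sq (qmat G x m _), sq (qmat G x n _), qmat_dot hG x, qmat_self hG x] at h
  rw [abs_le]
  constructor <;> nlinarith

theorem qmat_values (m n : Far G x) :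
    qmat G x m n = 4 ∨ qmat G x m n = 1 ∨ qmat G x m n = -2 := by
  by_cases hmn : m = n
  · subst hmn; exact Or.inl (qmat_self hG x m)
  have hb := abs_le.1 (abs_qmat_le hG x m n)
  rw [qmat_apply, if_neg hmn] at hb ⊢
  by_cases hadj : G.Adj m.1 n.1
  · rw [if_pos hadj, meet_of_adj hG x hadj]; norm_num
  · rw [if_neg hadj] at hb ⊢
    omega

theorem qmat_eq_four_iff (m n : Far G x) : qmat G x m n = 4 ↔ ∀ k, qmat G x m k = qmat G x n k := by
  constructor
  · intro h k
    have hs : ∑ k, (qmat G x m k - qmat G x n k) ^ 2 = 0 := by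
      have e : ∑ k, (qmat G x m k - qmat G x n k) ^ 2 = (∑ k, qmat G x m k * qmat G x m k) -
          2 * (∑ k, qmat G x m k * qmat G x n k) + ∑ k, qmat G x n k * qmat G x n k := by
        rw [mul_sum, ← sum_sub_distrib, ← sum_add_distrib]
        exact sum_congr rfl fun k _ => by ring
      rw [e, qmat_dot hG x m m, qmat_dot hG x n n, qmat_dot hG x m n, qmat_self hG x, qmat_self hG x,
        h]
      norm_num
    have := (sum_eq_zero_iff_of_nonneg fun k _ => sq_nonneg _).1 hs k (mem_univ k)
    linarith [eq_zero_of_pow_eq_zero this]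
  · intro h
    rw [h n, qmat_self hG x]

theorem count_values (m : Far G x) :
    (univ.filter fun n => qmat G x m n = 4).card = 4 ∧
      (univ.filter fun n => qmat G x m n = -2).card = 24 := by
  have h0 := qmat_row_sum hG x m
  have h1 := qmat_dot hG x m m
  rw [qmat_self hG x] at h1
  have hv : ∀ n, qmat G x m n =
      1 + 3 * (if qmat G x m n = 4 then (1 : ℤ) else 0) - 3 * (if qmat G x m n = -2 then 1 else 0) := by
    intro n
    rcases qmat_values hG x m n with h | h | h <;> rw [h] <;> norm_num
  have hv2 : ∀ n, qmat G x m n * qmat G x m n =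
      1 + 15 * (if qmat G x m n = 4 then (1 : ℤ) else 0) + 3 * (if qmat G x m n = -2 then 1 else 0) := by
    intro n
    rcases qmat_values hG x m n with h | h | h <;> rw [h] <;> norm_num
  rw [sum_congr rfl fun n _ => hv n] at h0
  rw [sum_congr rfl fun n _ => hv2 n] at h1
  simp only [sum_add_distrib, sum_sub_distrib, ← mul_sum, sum_boole, sum_const, card_univ,
    card_far hG x, nsmul_eq_mul, mul_one] at h0 h1
  constructor <;> omega

theorem count_common (m n : Far G x) (hmn : qmat G x m n ≠ 4) :
    (univ.filter fun k => qmat G x m k = -2 ∧ qmat G x n k = -2).card =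
      if qmat G x m n = -2 then 4 else 12 := by
  have h := qmat_dot hG x m n
  have hex : ∀ k, qmat G x m k = 4 → qmat G x n k = qmat G x m n := by
    intro k hk
    rw [qmat_symm x k n, ← (qmat_eq_four_iff hG x m k).1 hk n]
  have hex' : ∀ k, qmat G x n k = 4 → qmat G x m k = qmat G x m n := by
    intro k hk
    rw [qmat_symm x k m, ← (qmat_eq_four_iff hG x n k).1 hk m, qmat_symm x m n]
  have key : ∀ k, qmat G x m k * qmat G x n k = qmat G x m k + qmat G x n k - 1 +
      3 * (qmat G x m n - 1) * (if qmat G x m k = 4 then (1 : ℤ) else 0) +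
      3 * (qmat G x m n - 1) * (if qmat G x n k = 4 then (1 : ℤ) else 0) +
      9 * (if qmat G x m k = -2 ∧ qmat G x n k = -2 then (1 : ℤ) else 0) := by
    intro k
    rcases qmat_values hG x m k with a | a | a
    · have b := hex k a
      rw [a, b]
      rw [if_pos rfl, if_neg hmn, if_neg (by norm_num)]
      ring
    · rcases qmat_values hG x n k with b | b | b
      · have := hex' k b; rw [a] at this
        rw [a, b, ← this]; norm_num
      · rw [a, b]; norm_num
      · rw [a, b]; norm_num
    · rcases qmat_values hG x n k with b | b | b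
      · have := hex' k b; rw [a] at this
        rw [a, b, ← this]; norm_num
      · rw [a, b]; norm_num
      · rw [a, b]; norm_num
  rw [sum_congr rfl fun k _ => key k] at h
  simp only [sum_add_distrib, sum_sub_distrib, ← mul_sum, sum_boole, sum_const, card_univ,
    card_far hG x, nsmul_eq_mul, mul_one, qmat_row_sum hG x, (count_values hG x m).1,
    (count_values hG x n).1] at h
  rcases qmat_values hG x m n with e | e | e
  · exact absurd e hmn
  · rw [e] at h
    rw [if_neg (by rw [e]; norm_num)]
    omega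
  · rw [e] at h
    rw [if_pos e]
    omega

end values

end Cfsg.Agent.Perm.SRG77
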