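import Cfsg.Agent.Lib.Perm.SRG77.Gram

/-!
The twenty-one-point cocliques through a vertex of a strongly regular graph with parameters
(77, 16, 0, 4).
-/

set_option autoImplicit false

namespace Cfsg.Agent.Perm.SRG77

open Finset Matrix

variable {V : Type*} [Fintype V] [DecidableEq V]

/-- the class space of `x` -/
abbrev Cls (G : SimpleGraph V) [DecidableRel G.Adj] (x : V) : Type _ :=
  {r : Far G x → ℤ // r ∈ (univ : Finset (Far G x)).image fun m => qmat G x m}

/-- a twenty-one-point coclique -/
def IsPt (G : SimpleGraph V) (C : Finset V) : Prop :=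
  C.card = 21 ∧ ∀ a ∈ C, ∀ b ∈ C, ¬ G.Adj a b

variable {G : SimpleGraph V} [DecidableRel G.Adj]

/-- the class of a far vertex -/
def cls (x : V) (m : Far G x) : Cls G x := ⟨qmat G x m, mem_image_of_mem _ (mem_univ m)⟩

theorem cls_surjective (x : V) : Function.Surjective (cls (G := G) x) := by
  rintro ⟨r, hr⟩
  obtain ⟨m, -, rfl⟩ := mem_image.1 hr
  exact ⟨m, rfl⟩

/-- a representative -/
noncomputable def rep (x : V) (c : Cls G x) : Far G x := (cls_surjective x c).choose

theorem cls_rep (x : V) (c : Cls G x) : cls x (rep x c) = c := (cls_surjective x c).choose_spec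

/-- the relation of disjointness on classes -/
def clsRel (x : V) (c d : Cls G x) : Prop := qmat G x (rep x c) (rep x d) = -2

noncomputable instance instDecidableClsRel (x : V) : DecidableRel (clsRel (G := G) x) :=
  fun _ _ => inferInstanceAs (Decidable (_ = _))

theorem qmat_congr (x : V) {m m' n n' : Far G x} (h1 : cls x m = cls x m') (h2 : cls x n = cls x n') :
    qmat G x m n = qmat G x m' n' := by
  have a : qmat G x m n = qmat G x m' n := congrFun (congrArg Subtype.val h1) n
  have b : qmat G x n m' = qmat G x n' m' := congrFun (congrArg Subtype.val h2) m'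
  rw [qmat_symm x m' n, qmat_symm x m' n'] at b
  exact a.trans b

theorem clsRel_iff (x : V) (m n : Far G x) : clsRel x (cls x m) (cls x n) ↔ qmat G x m n = -2 := by
  rw [clsRel, qmat_congr x (cls_rep x _) (cls_rep x _)]

variable (hG : G.IsSRGWith 77 16 0 4) (x : V)

include hG

theorem cls_eq_iff (m n : Far G x) : cls x m = cls x n ↔ qmat G x m n = 4 := by
  rw [qmat_eq_four_iff hG x]
  constructor
  · exact fun h k => congrFun (congrArg Subtype.val h) k
  · exact fun h => Subtype.ext (funext h)

theorem card_fibre (c : Cls G x) : (univ.filter fun m => cls x m = c).card = 4 := by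
  have e : univ.filter (fun m => cls x m = c) = univ.filter fun m => qmat G x (rep x c) m = 4 := by
    ext m
    simp only [mem_filter, mem_univ, true_and]
    rw [qmat_symm x m (rep x c), ← cls_eq_iff hG x m (rep x c), cls_rep]
  rw [e]
  exact (count_values hG x _).1

theorem card_preimage (P : Cls G x → Prop) [DecidablePred P] :
    (univ.filter fun m => P (cls x m)).card = 4 * (univ.filter P).card := by
  rw [card_eq_sum_card_fiberwise (f := cls x) (t := univ.filter P)
    (fun m hm => by simpa using hm), sum_congr rfl (g := fun _ => 4) (fun c hc => ?_), sum_const,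
    smul_eq_mul, mul_comm]
  rw [← card_fibre hG x c]
  congr 1
  ext m
  simp only [mem_filter, mem_univ, true_and] at hc ⊢
  exact ⟨And.right, fun h => ⟨h ▸ hc, h⟩⟩

theorem isQuad_cls : IsQuad (clsRel (G := G) x) where
  card := by
    have h := card_preimage hG x (fun _ => True)
    simp only [filter_true, card_univ, card_far hG x] at h
    omega
  irr c := by
    rw [clsRel, qmat_self hG x]
    norm_num
  symm c d h := by
    rw [clsRel] at h ⊢
    rw [qmat_symm x (rep x c)]
    exact h
  deg c := by
    have h := card_preimage hG x (clsRel x c)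
    have e : univ.filter (fun m => clsRel x c (cls x m)) =
        univ.filter fun m => qmat G x (rep x c) m = -2 := by
      ext m
      simp only [mem_filter, mem_univ, true_and]
      conv_lhs => rw [← cls_rep x c]
      exact clsRel_iff x _ m
    rw [e, (count_values hG x _).2] at h
    omega
  lam c d hcd := by
    have h := card_preimage hG x (fun z => clsRel x c z ∧ clsRel x d z)
    have e : univ.filter (fun m => clsRel x c (cls x m) ∧ clsRel x d (cls x m)) =
        univ.filter fun m => qmat G x (rep x c) m = -2 ∧ qmat G x (rep x d) m = -2 := by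
      ext m
      simp only [mem_filter, mem_univ, true_and]
      conv_lhs => rw [← cls_rep x c, ← cls_rep x d]
      rw [clsRel_iff, clsRel_iff]
    rw [clsRel] at hcd
    rw [e, count_common hG x _ _ (by rw [hcd]; norm_num), if_pos hcd] at h
    simp only [common]
    omega
  mu c d hne hcd := by
    have h := card_preimage hG x (fun z => clsRel x c z ∧ clsRel x d z)
    have e : univ.filter (fun m => clsRel x c (cls x m) ∧ clsRel x d (cls x m)) =
        univ.filter fun m => qmat G x (rep x c) m = -2 ∧ qmat G x (rep x d) m = -2 := by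
      ext m
      simp only [mem_filter, mem_univ, true_and]
      conv_lhs => rw [← cls_rep x c, ← cls_rep x d]
      rw [clsRel_iff, clsRel_iff]
    rw [clsRel] at hcd
    rw [e, count_common hG x _ _ (fun h4 => hne (by
      rw [← cls_rep x c, ← cls_rep x d, cls_eq_iff hG x]; exact h4)), if_neg hcd] at h
    simp only [common]
    omega

omit x in
/-- a point meets the neighbourhood of each further vertex six times -/
theorem six_of_isPt {C : Finset V} (hC : IsPt G C) {y : V} (hy : y ∉ C) :
    (C.filter fun c => G.Adj c y).card = 6 := by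
  let d : V → ℤ := fun z => ∑ c ∈ C, ind G c z
  have hd : ∀ z, d z = ((C.filter fun c => G.Adj c z).card : ℤ) := fun z => by
    simp [d, ind, sum_boole]
  have hzero : ∀ z ∈ C, d z = 0 := fun z hz => sum_eq_zero fun c hc => if_neg (hC.2 c hc z hz)
  have h1 : ∑ z, d z = 336 := by
    simp only [d]
    rw [sum_comm, sum_congr rfl fun c _ => sum_ind hG c, sum_const, hC.1]
    norm_num
  have h2 : ∑ z, d z ^ 2 = 2016 := by
    simp only [d, sq, sum_mul_sum]
    rw [sum_comm, sum_congr rfl (g := fun _ => 96) (fun c hc => ?_), sum_const, hC.1]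
    · norm_num
    · rw [sum_comm, sum_congr rfl fun c' _ => sum_ind_mul hG c c', ← add_sum_erase _ _ hc,
        sum_congr rfl (g := fun _ => 4) (fun c' hc' => ?_), sum_const, card_erase_of_mem hc, hC.1,
        if_pos rfl]
      · norm_num
      · rw [if_neg (Ne.symm (mem_erase.1 hc').1), if_neg (hC.2 c hc c' (mem_erase.1 hc').2)]
  have hcard : (univ \ C).card = 56 := by
    rw [card_sdiff_of_subset (subset_univ C), card_univ, hG.card, hC.1]
  have e1 : ∑ z ∈ univ \ C, d z = 336 := by
    rw [← h1, ← sum_sdiff (subset_univ C), sum_eq_zero hzero, add_zero]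
  have e2 : ∑ z ∈ univ \ C, d z ^ 2 = 2016 := by
    rw [← h2, ← sum_sdiff (subset_univ C) (f := fun z => d z ^ 2),
      sum_eq_zero (s := C) (fun z hz => by rw [hzero z hz]; rfl), add_zero]
  have hz : ∑ z ∈ univ \ C, (d z - 6) ^ 2 = 0 := by
    simp only [sub_sq, sum_add_distrib, sum_sub_distrib, ← sum_mul, ← mul_sum, sum_const, hcard,
      nsmul_eq_mul, e1, e2]
    norm_num
  have := (sum_eq_zero_iff_of_nonneg fun z _ => sq_nonneg _).1 hz y
    (mem_sdiff.2 ⟨mem_univ y, hy⟩)
  have := eq_zero_of_pow_eq_zero this
  rw [hd] at this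
  omega

omit hG in
/-- the vertex set of a set of classes, with `x` -/
def liftSet (F : Finset (Cls G x)) : Finset V :=
  insert x ((univ.filter fun m => cls x m ∈ F).map (Function.Embedding.subtype _))

omit hG in
theorem mem_liftSet (F : Finset (Cls G x)) (m : Far G x) : m.1 ∈ liftSet x F ↔ cls x m ∈ F := by
  simp only [liftSet, mem_insert, mem_map, mem_filter, mem_univ, true_and,
    Function.Embedding.coe_subtype]
  constructor
  · rintro (h | ⟨n, hn, e⟩)
    · exact absurd h m.2.1
    · rwa [← Subtype.ext e]
  · exact fun h => Or.inr ⟨m, h, rfl⟩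

omit hG in
theorem liftSet_injective : Function.Injective (liftSet (G := G) x) := by
  intro F F' h
  ext c
  obtain ⟨m, rfl⟩ := cls_surjective x c
  rw [← mem_liftSet, h, mem_liftSet]

theorem isPt_liftSet {F : Finset (Cls G x)} (hF : IsFive (clsRel x) F) : IsPt G (liftSet x F) := by
  constructor
  · rw [liftSet, card_insert_of_notMem, card_map, card_preimage hG x (fun c => c ∈ F)]
    · rw [filter_mem_eq_inter, univ_inter, hF.1]
    · simp only [mem_map, Function.Embedding.coe_subtype, not_exists, not_and]
      exact fun m _ e => m.2.1 e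
  · intro a ha b hb hab
    simp only [liftSet, mem_insert, mem_map, mem_filter, mem_univ, true_and,
      Function.Embedding.coe_subtype] at ha hb
    rcases ha with rfl | ⟨m, hm, rfl⟩
    · rcases hb with rfl | ⟨n, -, rfl⟩
      · exact G.irrefl hab
      · exact n.2.2 hab
    · rcases hb with rfl | ⟨n, hn, rfl⟩
      · exact m.2.2 hab.symm
      · refine hF.2 _ hm _ hn ((clsRel_iff x m n).2 ?_)
        rw [qmat_apply, if_neg (fun e => G.ne_of_adj hab (by rw [e])), if_pos hab,
          meet_of_adj hG x hab]
        norm_num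

theorem exists_five {C : Finset V} (hC : IsPt G C) (hx : x ∈ C) :
    ∃ F : Finset (Cls G x), IsFive (clsRel x) F ∧ liftSet x F = C := by
  let s : Far G x → ℤ := fun m => if m.1 ∈ C then 1 else 0
  have hsum : ∀ f : V → ℤ, ∑ c ∈ C, f c = f x + ∑ m : Far G x, f m.1 * s m := by
    intro f
    have h := sum_split (G := G) x fun z => if z ∈ C then f z else 0
    rw [sum_ite_mem, univ_inter, if_pos hx] at h
    rw [h, sum_eq_zero (fun (a : Near G x) _ => if_neg fun ha => hC.2 x hx a.1 ha a.2), add_zero]
    congr 1
    exact sum_congr rfl fun m _ => by simp [s, mul_ite]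
  have hs20 : ∑ m, s m = 20 := by
    have h := hsum fun _ => 1
    simp only [sum_const, hC.1, one_mul, nsmul_eq_mul, mul_one] at h
    omega
  have hB : ∀ m : Far G x, ∑ n, ind G m.1 n.1 * s n = 6 * (1 - s m) := by
    intro m
    have h := hsum fun c => ind G m.1 c
    rw [ind_x_far m, zero_add] at h
    rw [← h]
    by_cases hm : m.1 ∈ C
    · rw [sum_eq_zero fun c hc => (show ind G m.1 c = 0 from if_neg (hC.2 _ hm c hc))]
      simp [s, hm]
    · have h6 := six_of_isPt hG hC hm
      have e : ∑ c ∈ C, ind G m.1 c = ((C.filter fun c => G.Adj c m.1).card : ℤ) := by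
        simp only [ind_symm m.1]
        simp [ind, sum_boole]
      rw [e, h6]
      simp [s, hm]
  have hX : ∀ a : Near G x, ∑ n, ind G a.1 n.1 * s n = 5 := by
    intro a
    have h := hsum fun c => ind G a.1 c
    have ha : a.1 ∉ C := fun h => hC.2 x hx _ h a.2
    have e : ∑ c ∈ C, ind G a.1 c = ((C.filter fun c => G.Adj c a.1).card : ℤ) := by
      simp only [ind_symm a.1]
      simp [ind, sum_boole]
    rw [e, six_of_isPt hG hC ha, ind_near_x a] at h
    omega
  have hQ : ∀ m, ∑ n, qmat G x m n * s n = 48 * s m - 16 := by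
    intro m
    have hC' : ∑ n, ((xmat G x)ᵀ * xmat G x) m n * s n = 20 := by
      simp only [Matrix.mul_apply, Matrix.transpose_apply, xmat, Matrix.of_apply, sum_mul]
      rw [sum_comm]
      simp only [mul_assoc, ← mul_sum, hX, ← sum_mul]
      rw [near_row_sum hG x m]
      norm_num
    have h1 : ∑ n, (if m = n then (1 : ℤ) else 0) * s n = s m := by simp
    simp only [qmat, Matrix.sub_apply, Matrix.add_apply, Matrix.smul_apply, Matrix.one_apply, bmat,
      allOne, Matrix.of_apply, smul_eq_mul, add_mul, sub_mul, mul_one, sum_add_distrib,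
      sum_sub_distrib, mul_assoc, ← mul_sum, hC', hB, h1, hs20]
    ring
  have hconst : ∀ m n : Far G x, cls x m = cls x n → (m.1 ∈ C ↔ n.1 ∈ C) := by
    intro m n h
    have h' : qmat G x m = qmat G x n := congrArg Subtype.val h
    have h1 := hQ m
    rw [h', hQ n] at h1
    simp only [s] at h1
    split_ifs at h1 <;> simp_all
  refine ⟨(univ.filter fun m : Far G x => m.1 ∈ C).image (cls x), ?_, ?_⟩
  · have hmem : ∀ m, cls x m ∈ (univ.filter fun m : Far G x => m.1 ∈ C).image (cls x) ↔ m.1 ∈ C := by
      intro m
      simp only [mem_image, mem_filter, mem_univ, true_and]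
      exact ⟨fun ⟨n, hn, e⟩ => (hconst n m e).1 hn, fun h => ⟨m, h, rfl⟩⟩
    refine ⟨?_, ?_⟩
    · have h := card_preimage hG x (fun c => c ∈ (univ.filter fun m : Far G x => m.1 ∈ C).image (cls x))
      rw [filter_mem_eq_inter, univ_inter] at h
      simp only [hmem] at h
      have h' : ((univ.filter fun m : Far G x => m.1 ∈ C).card : ℤ) = 20 := by
        rw [← hs20]; simp [s, sum_boole]
      omega
    · intro c hc d hd hcd
      obtain ⟨m, hm, rfl⟩ := mem_image.1 hc
      obtain ⟨n, -, rfl⟩ := mem_image.1 hd
      rw [clsRel_iff] at hcd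
      have hmC : m.1 ∈ C := (hmem m).1 hc
      -- the class of `n` would meet the four neighbours of `m` near `x` eight times
      let K := univ.filter fun k => cls x k = cls x n
      have hk2 : ∀ k ∈ K, meetNear x m k = 2 := by
        intro k hk
        have hk' := (mem_filter.1 hk).2
        have hkC : k.1 ∈ C := (hmem k).1 (by rw [hk']; exact hd)
        have hq : qmat G x m k = -2 := by rw [qmat_congr x rfl hk']; exact hcd
        have hne : m ≠ k := fun e => by rw [← e, qmat_self hG x] at hq; norm_num at hq
        rw [qmat_apply, if_neg (hC.2 _ hmC _ hkC), if_neg hne] at hq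
        omega
      have hdisj : ∀ a : Near G x, (K.filter fun k => G.Adj a.1 m.1 ∧ G.Adj a.1 k.1).card ≤
          (if G.Adj a.1 m.1 then 1 else 0) := by
        intro a
        split_ifs with ha
        · rw [card_le_one]
          intro k hk l hl
          simp only [K, mem_filter, mem_univ, true_and] at hk hl
          by_contra hkl
          have hq : qmat G x k l = 4 := (cls_eq_iff hG x k l).1 (hk.1.trans hl.1.symm)
          rw [qmat_apply, if_neg hkl] at hq
          have hpos : 0 < meetNear x k l := card_pos.2 ⟨a, by simp [hk.2.2, hl.2.2]⟩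
          split_ifs at hq <;> omega
        · simp [ha]
      have e := sum_card_bipartiteAbove_eq_sum_card_bipartiteBelow
        (fun (k : Far G x) (a : Near G x) => G.Adj a.1 m.1 ∧ G.Adj a.1 k.1) (s := K)
        (t := (univ : Finset (Near G x)))
      simp only [bipartiteAbove, bipartiteBelow] at e
      have e' : ∑ k ∈ K, meetNear x m k = 8 := by
        rw [sum_congr rfl hk2, sum_const, card_fibre hG x (cls x n)]; rfl
      have hle := sum_le_sum (s := (univ : Finset (Near G x))) fun a _ => hdisj a
      simp only [meetNear] at e'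
      rw [← e, e'] at hle
      have h4 := near_row_sum hG x m
      simp only [ind, sum_boole] at h4
      simp only [sum_boole] at hle
      simp only [Nat.cast_id] at hle
      omega
  · ext z
    by_cases hz : z = x
    · subst hz; simp [liftSet, hx]
    by_cases hadj : G.Adj x z
    · simp only [liftSet, mem_insert, hz, false_or, mem_map, Function.Embedding.coe_subtype]
      constructor
      · rintro ⟨m, -, rfl⟩; exact absurd hadj m.2.2
      · exact fun h => absurd hadj (hC.2 x hx z h)
    · have h := mem_liftSet (G := G) x ((univ.filter fun m : Far G x => m.1 ∈ C).image (cls x))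
        ⟨z, hz, hadj⟩
      rw [h]
      simp only [mem_image, mem_filter, mem_univ, true_and]
      exact ⟨fun ⟨n, hn, e⟩ => (hconst n ⟨z, hz, hadj⟩ e).1 hn, fun h => ⟨_, h, rfl⟩⟩

theorem card_points_through [DecidablePred (IsPt G)] :
    (univ.filter fun C : Finset V => IsPt G C ∧ x ∈ C).card = 6 := by
  classical
  rw [← card_fives (isQuad_cls hG x)]
  symm
  refine card_bij (fun F _ => liftSet x F) (fun F hF => ?_) (fun F _ F' _ e => liftSet_injective x e)
    (fun C hC => ?_)
  · simp only [mem_filter, mem_univ, true_and] at hF ⊢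
    exact ⟨isPt_liftSet hG x hF, mem_insert_self _ _⟩
  · simp only [mem_filter, mem_univ, true_and] at hC ⊢
    obtain ⟨F, hF, e⟩ := exists_five hG x hC.1 hC.2
    exact ⟨F, hF, e⟩

theorem card_points_through_two [DecidablePred (IsPt G)] {y : V} (hyx : y ≠ x) (hy : ¬ G.Adj x y) :
    (univ.filter fun C : Finset V => IsPt G C ∧ x ∈ C ∧ y ∈ C).card = 2 := by
  classical
  rw [← card_through (isQuad_cls hG x) (cls x ⟨y, hyx, hy⟩)]
  symm
  refine card_bij (fun F _ => liftSet x F) (fun F hF => ?_) (fun F _ F' _ e => liftSet_injective x e)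
    (fun C hC => ?_)
  · simp only [mem_filter, mem_univ, true_and] at hF ⊢
    exact ⟨isPt_liftSet hG x hF.1, mem_insert_self _ _,
      (mem_liftSet x F ⟨y, hyx, hy⟩).2 hF.2⟩
  · simp only [mem_filter, mem_univ, true_and] at hC ⊢
    obtain ⟨F, hF, e⟩ := exists_five hG x hC.1 hC.2.1
    exact ⟨F, ⟨hF, (mem_liftSet x F ⟨y, hyx, hy⟩).1 (e ▸ hC.2.2)⟩, e⟩

end Cfsg.Agent.Perm.SRG77
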