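import Mathlib

/-!
The independent five-sets of a strongly regular relation with parameters (15, 6, 1, 3):
there are six, two through each point.
-/

set_option autoImplicit false

namespace Cfsg.Agent.Perm.SRG77

open Finset

variable {C : Type*} [Fintype C] [DecidableEq C]

/-- the common neighbours -/
def common (D : C → C → Prop) [DecidableRel D] (u w : C) : Finset C :=
  univ.filter fun z => D u z ∧ D w z

/-- the parameters (15, 6, 1, 3) -/
structure IsQuad (D : C → C → Prop) [DecidableRel D] : Prop where
  card : Fintype.card C = 15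
  irr : ∀ u, ¬ D u u
  symm : ∀ u w, D u w → D w u
  deg : ∀ u, (univ.filter (D u)).card = 6
  lam : ∀ u w, D u w → (common D u w).card = 1
  mu : ∀ u w, u ≠ w → ¬ D u w → (common D u w).card = 3

/-- an independent five-set -/
def IsFive (D : C → C → Prop) (S : Finset C) : Prop := S.card = 5 ∧ ∀ a ∈ S, ∀ b ∈ S, ¬ D a b

variable {D : C → C → Prop} [DecidableRel D]

theorem one_elim {s : Finset C} (h : s.card = 1) {a b : C} (ha : a ∈ s) (hb : b ∈ s) : a = b :=
  card_le_one.1 h.le a ha b hb

theorem two_through (hD : IsQuad D) (v : C) :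
    ∃ S T : Finset C, S ≠ T ∧ ∀ X : Finset C, (IsFive D X ∧ v ∈ X) ↔ (X = S ∨ X = T) := by
  classical
  set N := univ.filter (D v) with hN
  have memN : ∀ z, z ∈ N ↔ D v z := fun z => by simp [hN]
  set O := univ.filter (fun z => z ≠ v ∧ ¬ D v z) with hO
  have memO : ∀ z, z ∈ O ↔ z ≠ v ∧ ¬ D v z := fun z => by simp [hO]
  have hO8 : O.card = 8 := by
    have h : O = (univ.erase v).filter fun z => ¬ D v z := by ext z; simp [memO, and_comm]
    have h1 : (univ.erase v).filter (fun z => D v z) = N := by
      ext z
      simp only [mem_filter, mem_erase, mem_univ, and_true, memN]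
      exact ⟨And.right, fun hz => ⟨fun e => hD.irr v (e ▸ hz), hz⟩⟩
    have h2 := card_filter_add_card_filter_not (s := univ.erase v) (fun z => D v z)
    rw [h1, ← h, card_erase_of_mem (mem_univ v), card_univ, hD.card, hD.deg] at h2
    omega
  let A : C → Finset C := fun u => N.filter (D u)
  let P : C → Finset C := fun u => O.filter (D u)
  have memA : ∀ u z, z ∈ A u ↔ D v z ∧ D u z := fun u z => by simp [A, memN]
  have memP : ∀ u z, z ∈ P u ↔ (z ≠ v ∧ ¬ D v z) ∧ D u z := fun u z => by simp [P, memO]
  have hA3 : ∀ u ∈ O, (A u).card = 3 := by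
    intro u hu
    have : A u = common D v u := by ext z; simp [memA, common]
    rw [this]
    exact hD.mu v u (Ne.symm ((memO u).1 hu).1) ((memO u).1 hu).2
  have split : ∀ u ∈ O, ∀ w ∈ O, (common D u w).card = (A u ∩ A w).card + (P u ∩ P w).card := by
    intro u hu w hw
    rw [← card_union_of_disjoint]
    · congr 1
      ext z
      simp only [common, mem_filter, mem_univ, true_and, mem_union, mem_inter, memA, memP]
      constructor
      · intro hz
        by_cases hv : D v z
        · exact Or.inl ⟨⟨hv, hz.1⟩, hv, hz.2⟩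
        · have hzv : z ≠ v := fun e => ((memO u).1 hu).2 (hD.symm _ _ (e ▸ hz.1))
          exact Or.inr ⟨⟨⟨hzv, hv⟩, hz.1⟩, ⟨hzv, hv⟩, hz.2⟩
      · rintro (h | h)
        · exact ⟨h.1.2, h.2.2⟩
        · exact ⟨h.1.2, h.2.2⟩
    · rw [disjoint_left]
      intro z h1 h2
      simp only [mem_inter, memA, memP] at h1 h2
      exact h2.1.1.2 h1.1.1
  have hP3 : ∀ u ∈ O, (P u).card = 3 := by
    intro u hu
    have h := hD.deg u
    have e : univ.filter (D u) = A u ∪ P u := by
      ext z
      simp only [mem_filter, mem_univ, true_and, mem_union, memA, memP]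
      constructor
      · intro hz
        by_cases hv : D v z
        · exact Or.inl ⟨hv, hz⟩
        · exact Or.inr ⟨⟨fun e => ((memO u).1 hu).2 (hD.symm _ _ (e ▸ hz)), hv⟩, hz⟩
      · rintro (h | h) <;> exact h.2
    rw [e, card_union_of_disjoint, hA3 u hu] at h
    · omega
    · rw [disjoint_left]
      intro z h1 h2
      simp only [memA, memP] at h1 h2
      exact h2.1.2 h1.1
  -- the mate of a neighbour of `v`
  have hmate : ∀ a ∈ N, ∃ b ∈ N, D a b := by
    intro a ha
    obtain ⟨b, hb⟩ := card_eq_one.1 (hD.lam v a ((memN a).1 ha))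
    have hb' : b ∈ common D v a := by rw [hb]; exact mem_singleton_self b
    simp only [common, mem_filter, mem_univ, true_and] at hb'
    exact ⟨b, (memN b).2 hb'.1, hb'.2⟩
  choose! mate hmateN hmateD using hmate
  have hmateU : ∀ a ∈ N, ∀ b ∈ N, D a b → b = mate a := by
    intro a ha b hb hab
    refine one_elim (hD.lam v a ((memN a).1 ha)) ?_ ?_
    · simp [common, (memN b).1 hb, hab]
    · simp [common, (memN _).1 (hmateN a ha), hmateD a ha]
  have hnoDA : ∀ u ∈ O, ∀ a ∈ A u, ∀ b ∈ A u, ¬ D a b := by
    intro u hu a ha b hb hab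
    rw [memA] at ha hb
    have h := one_elim (hD.lam a b hab) (a := v) (b := u)
      (by simp [common, hD.symm _ _ ha.1, hD.symm _ _ hb.1])
      (by simp [common, hD.symm _ _ ha.2, hD.symm _ _ hb.2])
    exact ((memO u).1 hu).1 h.symm
  -- adjacent points outside meet once in `N` and never outside
  have hadj : ∀ u ∈ O, ∀ p ∈ P u, (A u ∩ A p).card = 1 ∧ (P u ∩ P p).card = 0 := by
    intro u hu
    have hthird : ∀ a ∈ A u, ∃ z ∈ P u, a ∈ A z := by
      intro a ha
      have ha' := (memA u a).1 ha
      obtain ⟨z, hz⟩ := card_eq_one.1 (hD.lam u a ha'.2)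
      have hz' : z ∈ common D u a := by rw [hz]; exact mem_singleton_self z
      simp only [common, mem_filter, mem_univ, true_and] at hz'
      have hzv : z ≠ v := fun e => ((memO u).1 hu).2 (hD.symm _ _ (e ▸ hz'.1))
      have hnv : ¬ D v z := fun hv => hnoDA u hu a ha z ((memA u z).2 ⟨hv, hz'.1⟩) hz'.2
      exact ⟨z, (memP u z).2 ⟨⟨hzv, hnv⟩, hz'.1⟩, (memA z a).2 ⟨ha'.1, hD.symm _ _ hz'.2⟩⟩
    choose! th hthP hthA using hthird
    have hinj : Set.InjOn th (A u) := by
      intro a ha b hb hab
      have hp := (memP u _).1 (hthP a ha)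
      refine one_elim (hD.lam u (th a) hp.2) ?_ ?_
      · have h1 := (memA u a).1 ha
        have h2 := (memA _ a).1 (hthA a ha)
        simp [common, h1.2, h2.2]
      · have h1 := (memA u b).1 hb
        have h2 := (memA _ b).1 (hthA b hb)
        rw [← hab] at h2
        simp [common, h1.2, h2.2]
    have himg : (A u).image th = P u := by
      refine eq_of_subset_of_card_le ?_ ?_
      · intro z hz
        obtain ⟨a, ha, rfl⟩ := mem_image.1 hz
        exact hthP a ha
      · rw [card_image_of_injOn hinj, hA3 u hu, hP3 u hu]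
    intro p hp
    rw [← himg, mem_image] at hp
    obtain ⟨a, ha, rfl⟩ := hp
    have h1 : a ∈ A u ∩ A (th a) := mem_inter.2 ⟨ha, hthA a ha⟩
    have hO' : th a ∈ O := (memO _).2 ((memP u _).1 (hthP a ha)).1
    have h := split u hu (th a) hO'
    rw [hD.lam u (th a) ((memP u _).1 (hthP a ha)).2] at h
    have : 1 ≤ (A u ∩ A (th a)).card := card_pos.2 ⟨a, h1⟩
    omega
  -- the size of the meet of two of the triples, seen from a third
  have hmeet : ∀ u ∈ O, ∀ p ∈ O, ∀ q ∈ O, (A p ∩ A q).card + (A u ∩ A p).card + (A u ∩ A q).card =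
      3 + 2 * ((A u ∩ A p) ∩ (A u ∩ A q)).card := by
    intro u hu p hp q hq
    have hpair : ∀ w ∈ O, ∀ a ∈ A u, (mate a ∈ A w ↔ a ∉ A w) := by
      intro w hw a ha
      have haN : a ∈ N := (mem_filter.1 ha).1
      constructor
      · intro h1 h2
        exact hnoDA w hw a h2 _ h1 (hmateD a haN)
      · intro h2
        have hall : ∀ b ∈ A w, b ≠ a ∧ b ∈ N := fun b hb =>
          ⟨fun e => h2 (e ▸ hb), (mem_filter.1 hb).1⟩
        by_contra h1
        -- the three elements of `A w` are in the other two pairs
        have hN6 : N.card = 6 := hD.deg v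
        let rest := (N.erase a).erase (mate a)
        have hma : mate a ≠ a := fun e => hD.irr a (by have := hmateD a haN; rwa [e] at this)
        have hrest : rest.card = 4 := by
          simp only [rest]
          rw [card_erase_of_mem (mem_erase.2 ⟨hma, hmateN a haN⟩), card_erase_of_mem haN, hN6]
        have hsub : A w ⊆ rest := fun b hb => mem_erase.2
          ⟨fun e => h1 (e ▸ hb), mem_erase.2 ⟨(hall b hb).1, (hall b hb).2⟩⟩
        have hmsub : (A w).image mate ⊆ rest := by
          intro c hc
          obtain ⟨b, hb, rfl⟩ := mem_image.1 hc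
          have hbN := (hall b hb).2
          refine mem_erase.2 ⟨fun e => ?_, mem_erase.2 ⟨fun e => ?_, hmateN b hbN⟩⟩
          · have h3 := hmateU (mate a) (hmateN a haN) b hbN
              (by rw [← e]; exact hD.symm _ _ (hmateD b hbN))
            have h4 := hmateU (mate a) (hmateN a haN) a haN (hD.symm _ _ (hmateD a haN))
            exact (hall b hb).1 (h3.trans h4.symm)
          · have h3 := hmateU a haN b hbN (by rw [← e]; exact hD.symm _ _ (hmateD b hbN))
            exact h1 (h3 ▸ hb)
        have hdisj : Disjoint (A w) ((A w).image mate) := by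
          rw [disjoint_left]
          intro c hc hc'
          obtain ⟨b, hb, rfl⟩ := mem_image.1 hc'
          exact hnoDA w hw b hb _ hc (hmateD b (hall b hb).2)
        have hinjm : Set.InjOn mate (A w) := by
          intro b hb c hc e
          have hbN := (hall b hb).2
          have hcN := (hall c hc).2
          have h3 := hmateU (mate b) (hmateN b hbN) b hbN (hD.symm _ _ (hmateD b hbN))
          have h4 := hmateU (mate b) (hmateN b hbN) c hcN
            (by rw [e]; exact hD.symm _ _ (hmateD c hcN))
          exact h3.trans h4.symm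
        have := card_le_card (union_subset hsub hmsub)
        rw [card_union_of_disjoint hdisj, card_image_of_injOn hinjm, hA3 w hw, hrest] at this
        omega
    have hbij : ((A p ∩ A q) \ A u).card = (A u \ ((A u ∩ A p) ∪ (A u ∩ A q))).card := by
      symm
      refine card_bij (fun a _ => mate a) ?_ ?_ ?_
      · intro a ha
        simp only [mem_sdiff, mem_union, mem_inter, not_or, not_and] at ha
        simp only [mem_sdiff, mem_inter]
        refine ⟨⟨(hpair p hp a ha.1).2 (ha.2.1 ha.1), (hpair q hq a ha.1).2 (ha.2.2 ha.1)⟩, ?_⟩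
        exact fun h => (hpair u hu a ha.1).1 h ha.1
      · intro a ha b hb e
        have haN : a ∈ N := (mem_filter.1 (mem_sdiff.1 ha).1).1
        have hbN : b ∈ N := (mem_filter.1 (mem_sdiff.1 hb).1).1
        have h3 := hmateU (mate a) (hmateN a haN) a haN (hD.symm _ _ (hmateD a haN))
        have h4 := hmateU (mate a) (hmateN a haN) b hbN (by rw [e]; exact hD.symm _ _ (hmateD b hbN))
        exact h3.trans h4.symm
      · intro c hc
        simp only [mem_sdiff, mem_inter] at hc
        obtain ⟨⟨hcp, hcq⟩, hcu⟩ := hc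
        have hcN : c ∈ N := (mem_filter.1 hcp).1
        have hcm : mate c ∈ N := hmateN c hcN
        have hback : mate (mate c) = c := (hmateU _ hcm c hcN (hD.symm _ _ (hmateD c hcN))).symm
        have hmu : mate c ∈ A u := by
          by_contra h
          -- `A u` contains `c` or its mate
          obtain ⟨a, ha⟩ : (A u).Nonempty := card_pos.1 (by rw [hA3 u hu]; norm_num)
          have hN6 : N.card = 6 := hD.deg v
          have himg : A u ∪ (A u).image mate = N := by
            refine eq_of_subset_of_card_le (union_subset (filter_subset _ _) fun z hz => ?_) ?_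
            · obtain ⟨b, hb, rfl⟩ := mem_image.1 hz
              exact hmateN b (mem_filter.1 hb).1
            · rw [card_union_of_disjoint, card_image_of_injOn, hA3 u hu, hN6]
              · intro b hb d hd e
                have hbN := (mem_filter.1 hb).1
                have hdN := (mem_filter.1 hd).1
                have h3 := hmateU (mate b) (hmateN b hbN) b hbN (hD.symm _ _ (hmateD b hbN))
                have h4 := hmateU (mate b) (hmateN b hbN) d hdN
                  (by rw [e]; exact hD.symm _ _ (hmateD d hdN))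
                exact h3.trans h4.symm
              · rw [disjoint_left]
                intro z hz hz'
                obtain ⟨b, hb, rfl⟩ := mem_image.1 hz'
                exact hnoDA u hu b hb _ hz (hmateD b (mem_filter.1 hb).1)
          rw [← himg, mem_union] at hcN
          rcases hcN with h' | h'
          · exact hcu h'
          · obtain ⟨b, hb, rfl⟩ := mem_image.1 h'
            have hbN := (mem_filter.1 hb).1
            exact h ((hmateU _ (hmateN b hbN) b hbN (hD.symm _ _ (hmateD b hbN))) ▸ hb)
        refine ⟨mate c, ?_, hback⟩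
        simp only [mem_sdiff, mem_union, mem_inter, not_or, not_and]
        refine ⟨hmu, fun _ h => ?_, fun _ h => ?_⟩
        · have := (hpair p hp _ hmu).1 (by rw [hback]; exact hcp)
          exact this h
        · have := (hpair q hq _ hmu).1 (by rw [hback]; exact hcq)
          exact this h
    have e1 := card_sdiff_add_card_inter (A p ∩ A q) (A u)
    have e2 : (A p ∩ A q) ∩ A u = (A u ∩ A p) ∩ (A u ∩ A q) := by
      ext z; simp only [mem_inter]; tauto
    have e3 := card_sdiff_add_card_inter (A u) ((A u ∩ A p) ∪ (A u ∩ A q))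
    have e4 : A u ∩ ((A u ∩ A p) ∪ (A u ∩ A q)) = (A u ∩ A p) ∪ (A u ∩ A q) := by
      ext z; simp only [mem_inter, mem_union]; tauto
    have e5 := card_union_add_card_inter (A u ∩ A p) (A u ∩ A q)
    rw [e2] at e1
    rw [e4, hA3 u hu] at e3
    omega
  obtain ⟨u, hu⟩ : O.Nonempty := card_pos.1 (by rw [hO8]; norm_num)
  have hPO : ∀ w, ∀ p ∈ P w, p ∈ O := fun w p hp => (mem_filter.1 hp).1
  have hPsymm : ∀ w ∈ O, ∀ z ∈ O, z ∈ P w → w ∈ P z := fun w hw z _ h =>
    mem_filter.2 ⟨hw, hD.symm _ _ (mem_filter.1 h).2⟩
  set Q := (O.erase u) \ P u with hQ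
  have memQ : ∀ q, q ∈ Q ↔ q ∈ O ∧ q ≠ u ∧ ¬ D u q := fun q => by
    simp only [hQ, mem_sdiff, mem_erase, P, mem_filter]
    tauto
  have hQ4 : Q.card = 4 := by
    rw [hQ, card_sdiff_of_subset (fun p hp => mem_erase.2 ⟨fun e => hD.irr u
      (by have := ((memP u p).1 hp).2; rwa [e] at this), hPO u p hp⟩), card_erase_of_mem hu, hO8,
      hP3 u hu]
  -- pairs in `P u` have one further common neighbour
  have hpairs : ∀ p ∈ P u, ∀ p' ∈ P u, p ≠ p' → (Q.filter fun q => D p q ∧ D p' q).card = 1 := by
    intro p hp p' hp' hne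
    have hpO := hPO u p hp
    have hpO' := hPO u p' hp'
    have hnD : ¬ D p p' := fun h => by
      have h0 := (hadj u hu p hp).2
      rw [card_eq_zero] at h0
      have : p' ∈ P u ∩ P p := mem_inter.2 ⟨hp', mem_filter.2 ⟨hpO', h⟩⟩
      rw [h0] at this
      simp at this
    have h3 := split p hpO p' hpO'
    rw [hD.mu p p' hne hnD] at h3
    have h4 := hmeet u hu p hpO p' hpO'
    rw [(hadj u hu p hp).1, (hadj u hu p' hp').1] at h4
    have hI : ((A u ∩ A p) ∩ (A u ∩ A p')).card = 0 := by
      rw [card_eq_zero, eq_empty_iff_forall_notMem]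
      intro a ha
      simp only [mem_inter, memA] at ha
      have := one_elim (hD.lam u a ha.1.1.2) (a := p) (b := p')
        (by simp [common, ((memP u p).1 hp).2, hD.symm _ _ ha.1.2.2])
        (by simp [common, ((memP u p').1 hp').2, hD.symm _ _ ha.2.2.2])
      exact hne this
    have hPP : (P p ∩ P p').card = 2 := by omega
    have e : P p ∩ P p' = insert u (Q.filter fun q => D p q ∧ D p' q) := by
      ext z
      simp only [mem_inter, mem_insert, mem_filter, memQ, P]
      constructor
      · rintro ⟨⟨hzO, hz⟩, -, hz'⟩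
        by_cases hzu : z = u
        · exact Or.inl hzu
        · refine Or.inr ⟨⟨hzO, hzu, fun h => ?_⟩, hz, hz'⟩
          have h0 := (hadj u hu p hp).2
          rw [card_eq_zero] at h0
          have : z ∈ P u ∩ P p := mem_inter.2 ⟨mem_filter.2 ⟨hzO, h⟩, mem_filter.2 ⟨hzO, hz⟩⟩
          rw [h0] at this
          simp at this
      · rintro (rfl | ⟨⟨hzO, -⟩, hz, hz'⟩)
        · exact ⟨⟨hu, hD.symm _ _ ((memP _ p).1 hp).2⟩, hu, hD.symm _ _ ((memP _ p').1 hp').2⟩
        · exact ⟨⟨hzO, hz⟩, hzO, hz'⟩
    rw [e, card_insert_of_notMem (by simp [memQ])] at hPP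
    omega
  let d : C → ℕ := fun q => ((P u).filter fun p => D p q).card
  have hd2 : ∀ q ∈ Q, d q ≤ 2 := by
    intro q hq
    by_contra h
    push Not at h
    obtain ⟨hqO, hqu, huq⟩ := (memQ q).1 hq
    have hall : (P u).filter (fun p => D p q) = P u :=
      eq_of_subset_of_card_le (filter_subset _ _) (by rw [hP3 u hu]; exact h)
    have hs := split u hu q hqO
    rw [hD.mu u q (Ne.symm hqu) huq] at hs
    have h3 : (P u ∩ P q).card = 3 := by
      rw [show P u ∩ P q = P u from ?_, hP3 u hu]
      refine inter_eq_left.2 fun p hp => mem_filter.2 ⟨hPO u p hp, hD.symm _ _ ?_⟩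
      exact (filter_eq_self.1 hall) p hp
    obtain ⟨p, hp⟩ : (P u).Nonempty := card_pos.1 (by rw [hP3 u hu]; norm_num)
    have h4 := hmeet u hu p (hPO u p hp) q hqO
    rw [(hadj u hu p hp).1, show (A u ∩ A q).card = 0 by omega] at h4
    have h5 : ((A u ∩ A p) ∩ (A u ∩ A q)).card = 0 := by
      have := card_le_card (inter_subset_right (s₁ := A u ∩ A p) (s₂ := A u ∩ A q))
      omega
    have h6 := (hadj p (hPO u p hp) q (mem_filter.2 ⟨hqO, (filter_eq_self.1 hall) p hp⟩)).1
    omega
  have hsum : ∑ q ∈ Q, d q = 6 := by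
    have e : ∀ p ∈ P u, (Q.filter fun q => D p q).card = 2 := by
      intro p hp
      have hpO := hPO u p hp
      have e : P p = insert u (Q.filter fun q => D p q) := by
        ext z
        simp only [mem_insert, mem_filter, memQ, P]
        constructor
        · rintro ⟨hzO, hz⟩
          by_cases hzu : z = u
          · exact Or.inl hzu
          · refine Or.inr ⟨⟨hzO, hzu, fun h => ?_⟩, hz⟩
            have h0 := (hadj u hu p hp).2
            rw [card_eq_zero] at h0
            have : z ∈ P u ∩ P p := mem_inter.2 ⟨mem_filter.2 ⟨hzO, h⟩, mem_filter.2 ⟨hzO, hz⟩⟩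
            rw [h0] at this
            simp at this
        · rintro (rfl | ⟨⟨hzO, -⟩, hz⟩)
          · exact ⟨hu, hD.symm _ _ ((memP _ p).1 hp).2⟩
          · exact ⟨hzO, hz⟩
      have h := hP3 p hpO
      rw [e, card_insert_of_notMem (by simp [memQ])] at h
      omega
    have := sum_card_bipartiteAbove_eq_sum_card_bipartiteBelow (fun p q => D p q)
      (s := P u) (t := Q)
    simp only [bipartiteAbove, bipartiteBelow] at this
    rw [sum_congr rfl e, sum_const, hP3 u hu] at this
    exact this.symm
  have hsum2 : ∑ q ∈ Q, d q * (d q - 1) = 6 := by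
    have e : ∀ q, d q * (d q - 1) = ((P u).offDiag.filter fun x => D x.1 q ∧ D x.2 q).card := by
      intro q
      have : (P u).offDiag.filter (fun x => D x.1 q ∧ D x.2 q) =
          ((P u).filter fun p => D p q).offDiag := by
        ext x
        simp only [mem_filter, mem_offDiag]
        tauto
      rw [this, offDiag_card, Nat.mul_sub_one]
    simp only [e]
    have := sum_card_bipartiteAbove_eq_sum_card_bipartiteBelow
      (fun (x : C × C) q => D x.1 q ∧ D x.2 q) (s := (P u).offDiag) (t := Q)
    simp only [bipartiteAbove, bipartiteBelow] at this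
    rw [← this, sum_congr rfl (g := fun _ => 1) (fun x hx => by
      obtain ⟨h1, h2, h3⟩ := mem_offDiag.1 hx
      exact hpairs _ h1 _ h2 h3), sum_const, offDiag_card, hP3 u hu]
    rfl
  have hz : ∀ q ∈ Q, d q = 0 ∨ d q = 2 := by
    have hle : ∀ q ∈ Q, d q * (d q - 1) ≤ d q := by
      intro q hq
      have := hd2 q hq
      interval_cases (d q) <;> norm_num
    intro q hq
    have := (sum_eq_sum_iff_of_le hle).1 (hsum2.trans hsum.symm) q hq
    have h2 := hd2 q hq
    interval_cases (d q) <;> simp_all
  have hQ1 : (Q.filter fun q => d q = 0).card = 1 := by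
    have h := sum_filter_add_sum_filter_not Q (fun q => d q = 0) d
    have h2 := card_filter_add_card_filter_not (s := Q) (fun q => d q = 0)
    rw [sum_eq_zero (fun q hq => (mem_filter.1 hq).2),
      sum_congr rfl (g := fun _ => 2) (fun q hq => (hz q (mem_filter.1 hq).1).resolve_left
        (mem_filter.1 hq).2), sum_const, hsum, smul_eq_mul, zero_add] at h
    rw [hQ4] at h2
    omega
  obtain ⟨t, ht⟩ := card_eq_one.1 hQ1
  have htQ : t ∈ Q ∧ d t = 0 := by
    have : t ∈ Q.filter fun q => d q = 0 := by rw [ht]; exact mem_singleton_self t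
    exact mem_filter.1 this
  obtain ⟨htO, htu, hut⟩ := (memQ t).1 htQ.1
  have htP : ∀ p ∈ P u, ¬ D p t := fun p hp h => by
    have h0 := htQ.2
    simp only [d, card_eq_zero, filter_eq_empty_iff] at h0
    exact h0 hp h
  have hR : P t = Q.erase t := by
    refine eq_of_subset_of_card_le (fun z hz => ?_) ?_
    · obtain ⟨hzO, hzt⟩ := mem_filter.1 hz
      refine mem_erase.2 ⟨fun e => hD.irr t (by rwa [e] at hzt), (memQ z).2 ⟨hzO, ?_, ?_⟩⟩
      · exact fun e => hut (hD.symm _ _ (e ▸ hzt))
      · exact fun h => htP z (mem_filter.2 ⟨hzO, h⟩) (hD.symm _ _ hzt)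
    · rw [card_erase_of_mem htQ.1, hQ4, hP3 t htO]
  have hRd : ∀ r ∈ P t, d r = 2 := by
    intro r hr
    rw [hR, mem_erase] at hr
    refine (hz r hr.2).resolve_left fun h => hr.1 ?_
    have : r ∈ Q.filter fun q => d q = 0 := mem_filter.2 ⟨hr.2, h⟩
    rw [ht, mem_singleton] at this
    exact this
  have hindP : ∀ w ∈ O, ∀ a ∈ P w, ∀ b ∈ P w, ¬ D a b := by
    intro w hw a ha b hb h
    have h0 := (hadj w hw a ha).2
    rw [card_eq_zero] at h0
    have : b ∈ P w ∩ P a := mem_inter.2 ⟨hb, mem_filter.2 ⟨hPO w b hb, h⟩⟩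
    rw [h0] at this
    simp at this
  have huR : ∀ r ∈ P t, ¬ D u r := fun r hr => by
    rw [hR, mem_erase] at hr
    exact ((memQ r).1 hr.2).2.2
  -- the two sets
  have hmk : ∀ x ∈ O, ∀ y ∈ O, x ∉ P y → (∀ z ∈ P y, ¬ D x z) →
      IsFive D (insert v (insert x (P y))) := by
    intro x hx y hy hxy hind
    have hsub : insert x (P y) ⊆ O := insert_subset hx (fun z hz => hPO y z hz)
    have hv : v ∉ insert x (P y) := fun h => ((memO v).1 (hsub h)).1 rfl
    refine ⟨by rw [card_insert_of_notMem hv, card_insert_of_notMem hxy, hP3 y hy], ?_⟩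
    intro a ha b hb
    rw [mem_insert] at ha hb
    rcases ha with rfl | ha
    · rcases hb with rfl | hb
      · exact hD.irr _
      · exact ((memO b).1 (hsub hb)).2
    · rcases hb with rfl | hb
      · exact fun h => ((memO a).1 (hsub ha)).2 (hD.symm _ _ h)
      · rw [mem_insert] at ha hb
        rcases ha with rfl | ha
        · rcases hb with rfl | hb
          · exact hD.irr _
          · exact hind b hb
        · rcases hb with rfl | hb
          · exact fun h => hind a ha (hD.symm _ _ h)
          · exact hindP y hy a ha b hb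
  have hut' : u ∉ P t := fun h => hut (hD.symm _ _ ((memP t u).1 h).2)
  have htu' : t ∉ P u := fun h => hut ((memP u t).1 h).2
  refine ⟨insert v (insert u (P t)), insert v (insert t (P u)), ?_, fun X => ⟨?_, ?_⟩⟩
  · intro e
    have hmem : u ∈ insert v (insert t (P u)) := by rw [← e]; simp
    simp only [mem_insert] at hmem
    rcases hmem with h | h | h
    · exact ((memO u).1 hu).1 h
    · exact htu h.symm
    · exact hD.irr u ((memP u u).1 h).2
  · rintro ⟨⟨hX5, hXi⟩, hvX⟩
    set S := X.erase v with hS
    have hS4 : S.card = 4 := by rw [hS, card_erase_of_mem hvX, hX5]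
    have hSO : S ⊆ O := fun z hz => (memO z).2 ⟨(mem_erase.1 hz).1, hXi v hvX z (mem_erase.1 hz).2⟩
    have hSi : ∀ a ∈ S, ∀ b ∈ S, ¬ D a b := fun a ha b hb =>
      hXi a (mem_erase.1 ha).2 b (mem_erase.1 hb).2
    have hcover : ∀ z ∈ S, z = u ∨ z = t ∨ z ∈ P u ∨ z ∈ P t := by
      intro z hz
      by_cases h1 : z = u
      · exact Or.inl h1
      by_cases h2 : z = t
      · exact Or.inr (Or.inl h2)
      by_cases h3 : D u z
      · exact Or.inr (Or.inr (Or.inl (mem_filter.2 ⟨hSO hz, h3⟩)))
      · exact Or.inr (Or.inr (Or.inr (hR ▸ mem_erase.2 ⟨h2, (memQ z).2 ⟨hSO hz, h1, h3⟩⟩)))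
    have hX : X = insert v S := (insert_erase hvX).symm
    by_cases huS : u ∈ S
    · left
      rw [hX]
      congr 1
      by_cases htS : t ∈ S
      · exfalso
        have hsub : S ⊆ {u, t} := by
          intro z hz
          rcases hcover z hz with h | h | h | h
          · simp [h]
          · simp [h]
          · exact absurd ((memP u z).1 h).2 (hSi u huS z hz)
          · exact absurd ((memP t z).1 h).2 (hSi t htS z hz)
        have := (card_le_card hsub).trans card_le_two
        omega
      · refine eq_of_subset_of_card_le (fun z hz => ?_) ?_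
        · rcases hcover z hz with h | h | h | h
          · exact mem_insert.2 (Or.inl h)
          · exact absurd (h ▸ hz) htS
          · exact absurd ((memP u z).1 h).2 (hSi u huS z hz)
          · exact mem_insert_of_mem h
        · rw [card_insert_of_notMem hut', hP3 t htO, hS4]
    · by_cases htS : t ∈ S
      · right
        rw [hX]
        congr 1
        refine eq_of_subset_of_card_le (fun z hz => ?_) ?_
        · rcases hcover z hz with h | h | h | h
          · exact absurd (h ▸ hz) huS
          · exact mem_insert.2 (Or.inl h)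
          · exact mem_insert_of_mem h
          · exact absurd ((memP t z).1 h).2 (hSi t htS z hz)
        · rw [card_insert_of_notMem htu', hP3 u hu, hS4]
      · exfalso
        have hsub : S ⊆ (S ∩ P u) ∪ (S ∩ P t) := by
          intro z hz
          rcases hcover z hz with h | h | h | h
          · exact absurd (h ▸ hz) huS
          · exact absurd (h ▸ hz) htS
          · exact mem_union_left _ (mem_inter.2 ⟨hz, h⟩)
          · exact mem_union_right _ (mem_inter.2 ⟨hz, h⟩)
        have h0 := (card_le_card hsub).trans (card_union_le _ _)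
        have h1 : (S ∩ P u).card ≤ 3 := (card_le_card inter_subset_right).trans (hP3 u hu).le
        have h2 : (S ∩ P t).card ≤ 3 := (card_le_card inter_subset_right).trans (hP3 t htO).le
        obtain ⟨r, hr⟩ : (S ∩ P t).Nonempty := card_pos.1 (by omega)
        rw [mem_inter] at hr
        have h3 : (S ∩ P u).card ≤ 1 := by
          have hsub' : S ∩ P u ⊆ (P u).filter fun p => ¬ D p r := fun p hp => by
            rw [mem_inter] at hp
            exact mem_filter.2 ⟨hp.2, hSi p hp.1 r hr.1⟩
          have e1 := card_filter_add_card_filter_not (s := P u) (fun p => D p r)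
          have e2 := hRd r hr.2
          have e3 := card_le_card hsub'
          simp only [d] at e2
          rw [hP3 u hu] at e1
          omega
        obtain ⟨p, hp⟩ : (S ∩ P u).Nonempty := card_pos.1 (by omega)
        rw [mem_inter] at hp
        have hall : S ∩ P t = P t := eq_of_subset_of_card_le inter_subset_right (by
          rw [hP3 t htO]; omega)
        have h4 : d r ≤ 2 := hd2 r ((mem_erase.1 (hR ▸ hr.2)).2)
        have hnon : ∀ r' ∈ P t, ¬ D p r' := fun r' hr' =>
          hSi p hp.1 r' (mem_inter.1 (hall.symm ▸ hr')).1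
        have hsum' : ∀ r' ∈ P t, (P u).filter (fun x => D x r') ⊆ (P u).erase p := fun r' hr' x hx =>
          mem_erase.2 ⟨fun e => hnon r' hr' (e ▸ (mem_filter.1 hx).2), (mem_filter.1 hx).1⟩
        -- two distinct `r'` would share both neighbours
        obtain ⟨r', hr', hne⟩ : ∃ r' ∈ P t, r' ≠ r := exists_mem_ne (by rw [hP3 t htO]; norm_num) r
        have hcard2 : ((P u).erase p).card = 2 := by rw [card_erase_of_mem hp.2, hP3 u hu]
        have e1 := eq_of_subset_of_card_le (hsum' r hr.2) (by rw [hcard2]; exact (hRd r hr.2).ge)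
        have e2 := eq_of_subset_of_card_le (hsum' r' hr') (by rw [hcard2]; exact (hRd r' hr').ge)
        obtain ⟨a, b, hab, he⟩ := card_eq_two.1 hcard2
        have ha : a ∈ (P u).filter fun x => D x r := by rw [e1, he]; simp
        have hb : b ∈ (P u).filter fun x => D x r := by rw [e1, he]; simp
        have ha' : a ∈ (P u).filter fun x => D x r' := by rw [e2, he]; simp
        have hb' : b ∈ (P u).filter fun x => D x r' := by rw [e2, he]; simp
        simp only [mem_filter] at ha hb ha' hb'
        rw [hR, mem_erase] at hr' hr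
        exact hne (one_elim (hpairs a ha.1 b hb.1 hab) (mem_filter.2 ⟨hr'.2, ha'.2, hb'.2⟩)
          (mem_filter.2 ⟨(mem_erase.1 hr.2).2, ha.2, hb.2⟩))
  · rintro (rfl | rfl)
    · exact ⟨hmk u hu t htO hut' huR, mem_insert_self _ _⟩
    · exact ⟨hmk t htO u hu htu' (fun z hz h => htP z hz (hD.symm _ _ h)), mem_insert_self _ _⟩

theorem card_through (hD : IsQuad D) (v : C) [DecidablePred (IsFive D)] :
    (univ.filter fun X : Finset C => IsFive D X ∧ v ∈ X).card = 2 := by
  obtain ⟨S, T, hST, h⟩ := two_through hD v
  rw [← card_pair hST]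
  congr 1
  ext X
  simp [h X]

theorem card_fives (hD : IsQuad D) [DecidablePred (IsFive D)] :
    (univ.filter fun X : Finset C => IsFive D X).card = 6 := by
  have h := sum_card_bipartiteAbove_eq_sum_card_bipartiteBelow (fun (X : Finset C) (v : C) => v ∈ X)
    (s := univ.filter fun X : Finset C => IsFive D X) (t := (univ : Finset C))
  simp only [bipartiteAbove, bipartiteBelow, filter_filter] at h
  rw [sum_congr rfl (g := fun _ => 5) (fun X hX => by
      rw [filter_mem_eq_inter, univ_inter]; exact (mem_filter.1 hX).2.1),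
    sum_congr rfl (g := fun _ => 2) (fun v _ => card_through hD v),
    sum_const, sum_const, card_univ, hD.card, smul_eq_mul, smul_eq_mul] at h
  omega

end Cfsg.Agent.Perm.SRG77
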